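import Cfsg.Agent.H800.ME.Twelve
import Cfsg.Agent.H800.ME.HN
import Cfsg.Agent.H800.Sp.Pair
import Cfsg.Agent.MFiveHN.Closed
import Cfsg.Agent.CoThreeStd.M12.Out
import Cfsg.Agent.BpSpor.MBigEleven

/-!
# The Monster at `p = 11`: `AbIrr`, `HasReal`

`x ∈ C(z)` of order 11 : `C(x) / ⟨x⟩ ≅ M12`.  An element `c ∈ C(z)` of order 5 with `x ^ c = x³`, `C(c) / ⟨c⟩ ≅ HN`, acts
trivially on `C(x) / ⟨x⟩`; so it centralises some `y ∈ C(x) \ ⟨x⟩` of order 11, which commutes with an involution (in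
`HN`), and `⟨y⟩` is conjugate to `⟨x⟩`.
-/

set_option autoImplicit false

namespace Cfsg.Agent.H800.ME.Final

open Cfsg.Agent.LThreeMB (fr XX Zx mk exists_mk mk_eq_one mk_mul mk_one mk_inv mk_congr mk_eq_mk tt PB mem_PB)
open Cfsg.Agent.MFive (pow_eq_one)
open Cfsg Cfsg.Agent.MonsterU
open Cfsg.Agent.MonsterU.Ch
open Cfsg.Agent.MonsterU.Lam2 (L2 IsType)
open Cfsg.Agent.H800.ME.CoFacts
open Cfsg.Spor (Co1)
open Subgroup (centralizer zpowers mem_centralizer_singleton_iff mem_zpowers_iff)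

universe u

section aut

variable {G : Type u} [Group G]

/-- conjugation by `f` on `C(x)` -/
def kap {x : G} (f : G) (hf : ∀ g : G, g * x = x * g → (f * g * f⁻¹) * x = x * (f * g * f⁻¹)) :
    ↥(centralizer ({x} : Set G)) →* ↥(centralizer ({x} : Set G)) where
  toFun g := ⟨f * g * f⁻¹, mem_centralizer_singleton_iff.2 (hf g (mem_centralizer_singleton_iff.1 g.2))⟩
  map_one' := Subtype.ext (by show f * 1 * f⁻¹ = 1; group)
  map_mul' a b := Subtype.ext (by
    show f * ((a : G) * b) * f⁻¹ = (f * a * f⁻¹) * (f * b * f⁻¹)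
    group)

/-- conjugation by `f` on `C(x) / ⟨x⟩` -/
def kbar {x : G} (f : G) (hf : ∀ g : G, g * x = x * g → (f * g * f⁻¹) * x = x * (f * g * f⁻¹))
    (hz : f * x * f⁻¹ ∈ zpowers x) : XX x →* XX x :=
  QuotientGroup.map (Zx x) (Zx x) (kap f hf) (by
    rw [Zx, Subgroup.zpowers_le, Subgroup.mem_comap, mem_zpowers_iff]
    obtain ⟨i, hi⟩ := mem_zpowers_iff.1 hz
    exact ⟨i, Subtype.ext hi⟩)

theorem kbar_mk {x : G} (f : G) (hf : ∀ g : G, g * x = x * g → (f * g * f⁻¹) * x = x * (f * g * f⁻¹))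
    (hz : f * x * f⁻¹ ∈ zpowers x) {g : G} (hg : g * x = x * g) : kbar f hf hz (mk x hg) = mk x (hf g hg) := rfl

/-- the automorphism of `C(x) / ⟨x⟩` -/
def kaut {x : G} (f : G) (hf : ∀ g : G, g * x = x * g → (f * g * f⁻¹) * x = x * (f * g * f⁻¹))
    (hz : f * x * f⁻¹ ∈ zpowers x) (hf' : ∀ g : G, g * x = x * g → (f⁻¹ * g * f⁻¹⁻¹) * x = x * (f⁻¹ * g * f⁻¹⁻¹))
    (hz' : f⁻¹ * x * f⁻¹⁻¹ ∈ zpowers x) : MulAut (XX x) :=
  { kbar f hf hz with
    invFun := kbar f⁻¹ hf' hz'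
    left_inv := by
      intro u
      obtain ⟨g, hg, rfl⟩ := exists_mk u
      show kbar f⁻¹ hf' hz' (kbar f hf hz (mk x hg)) = mk x hg
      rw [kbar_mk, kbar_mk]
      exact mk_congr _ _ (by group)
    right_inv := by
      intro u
      obtain ⟨g, hg, rfl⟩ := exists_mk u
      show kbar f hf hz (kbar f⁻¹ hf' hz' (mk x hg)) = mk x hg
      rw [kbar_mk, kbar_mk]
      exact mk_congr _ _ (by group) }

theorem exists_aut {x f : G} (hx : x ^ 11 = 1) (hf : f * x * f⁻¹ = x ^ 3) (hf5 : f ^ 5 = 1) :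
    ∃ φ : MulAut (XX x), φ ^ 5 = 1 ∧ ∀ (g : G) (hg : g * x = x * g) (hg' : (f * g * f⁻¹) * x = x * (f * g * f⁻¹)),
      φ (mk x hg) = mk x hg' := by
  have e12 : x = (x ^ 3) ^ 4 := by rw [← pow_mul, show 3 * 4 = 11 + 1 from rfl, pow_succ, hx, one_mul]
  have e4 : f⁻¹ * x * f = x ^ 4 := by
    calc f⁻¹ * x * f = f⁻¹ * (x ^ 3) ^ 4 * f := by rw [← e12]
      _ = f⁻¹ * (f * x * f⁻¹) ^ 4 * f := by rw [hf]
      _ = f⁻¹ * (f * x ^ 4 * f⁻¹) * f := by rw [conj_pow]
      _ = x ^ 4 := by group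
  have h1 : ∀ g : G, g * x = x * g → (f * g * f⁻¹) * x = x * (f * g * f⁻¹) := by
    intro g hg
    have h2 : Commute (f * g * f⁻¹) (x ^ 3) := by
      rw [← hf]
      show f * g * f⁻¹ * (f * x * f⁻¹) = f * x * f⁻¹ * (f * g * f⁻¹)
      calc f * g * f⁻¹ * (f * x * f⁻¹) = f * (g * x) * f⁻¹ := by group
        _ = f * (x * g) * f⁻¹ := by rw [hg]
        _ = _ := by group
    have h3 := h2.pow_right 4
    rw [← e12] at h3
    exact h3
  have h2 : ∀ g : G, g * x = x * g → (f⁻¹ * g * f⁻¹⁻¹) * x = x * (f⁻¹ * g * f⁻¹⁻¹) := by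
    intro g hg
    rw [inv_inv]
    have e3 : x = (x ^ 4) ^ 3 := by rw [← pow_mul, show 4 * 3 = 11 + 1 from rfl, pow_succ, hx, one_mul]
    have h2 : Commute (f⁻¹ * g * f) (x ^ 4) := by
      rw [← e4]
      show f⁻¹ * g * f * (f⁻¹ * x * f) = f⁻¹ * x * f * (f⁻¹ * g * f)
      calc f⁻¹ * g * f * (f⁻¹ * x * f) = f⁻¹ * (g * x) * f := by group
        _ = f⁻¹ * (x * g) * f := by rw [hg]
        _ = _ := by group
    have h3 := h2.pow_right 3
    rw [← e3] at h3
    exact h3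
  have z1 : f * x * f⁻¹ ∈ zpowers x := by rw [hf]; exact Subgroup.npow_mem_zpowers x 3
  have z2 : f⁻¹ * x * f⁻¹⁻¹ ∈ zpowers x := by rw [inv_inv, e4]; exact Subgroup.npow_mem_zpowers x 4
  have key : ∀ (g : G) (hg : g * x = x * g) (hg' : (f * g * f⁻¹) * x = x * (f * g * f⁻¹)),
      kaut f h1 z1 h2 z2 (mk x hg) = mk x hg' := fun g hg hg' => rfl
  refine ⟨kaut f h1 z1 h2 z2, ?_, key⟩
  ext u
  obtain ⟨g, hg, rfl⟩ := exists_mk u
  have g1 := h1 g hg
  have g2 := h1 _ g1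
  have g3 := h1 _ g2
  have g4 := h1 _ g3
  have g5 := h1 _ g4
  have e5 : (kaut f h1 z1 h2 z2 ^ 5) (mk x hg) = mk x g5 := by
    simp only [pow_succ, pow_zero, one_mul, MulAut.mul_apply]
    rw [key g hg g1, key _ g1 g2, key _ g2 g3, key _ g3 g4, key _ g4 g5]
  rw [e5]
  show mk x g5 = mk x hg
  refine mk_congr _ _ ?_
  calc f * (f * (f * (f * (f * g * f⁻¹) * f⁻¹) * f⁻¹) * f⁻¹) * f⁻¹ = f ^ 5 * g * (f ^ 5)⁻¹ := by
        simp only [pow_succ, pow_zero, one_mul, mul_inv_rev, mul_assoc]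
    _ = g := by rw [hf5, one_mul, inv_one, mul_one]

end aut

variable {G : Type u} [Group G] {Q : Subgroup G} {z : G} {eta : G → L2}
  {pi : Subgroup.centralizer ({z} : Set G) →* Co1}

theorem prime11 : Nat.Prime 11 := by norm_num

/-- a lift of `f` of order 5 normalising `⟨x⟩` -/
theorem exists_f (h : Chart Q z eta pi) {x : Subgroup.centralizer ({z} : Set G)} (hx : orderOf x = 11)
    (hpx : pi x = s) : ∃ c : Subgroup.centralizer ({z} : Set G), c * x * c⁻¹ = x ^ 3 ∧ pi c = f ∧ orderOf c = 5 := by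
  have hx11 := pow_eq_one hx
  obtain ⟨d, hd⟩ := h.pi_surj f
  have h1 : pi (d * x * d⁻¹) = pi (x ^ 3) := by rw [map_mul, map_mul, map_inv, map_pow, hd, hpx, fs]
  obtain ⟨q, hq, hqx⟩ := MFive.exists_conj_of_pi_eq h prime11 (by decide) (x := d * x * d⁻¹) (y := x ^ 3)
    (by rw [conj_pow, hx11, mul_one, mul_inv_cancel]) (by rw [← pow_mul, mul_comm, pow_mul, hx11, one_pow]) h1
  have hqz : q ∈ Subgroup.centralizer ({z} : Set G) := mem_centralizer_singleton_iff.2 (h.large.comm_z q hq)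
  obtain ⟨e, he, hef⟩ : ∃ e : Subgroup.centralizer ({z} : Set G), e * x * e⁻¹ = x ^ 3 ∧ pi e = f := by
    refine ⟨⟨q, hqz⟩ * d, Subtype.ext ?_, ?_⟩
    · rw [← hqx]
      simp only [Subgroup.coe_mul, InvMemClass.coe_inv, mul_inv_rev, mul_assoc]
    · rw [map_mul, (h.pi_eq_one ⟨q, hqz⟩).2 hq, one_mul, hd]
  have hpow : ∀ m : ℕ, e ^ m * x * (e ^ m)⁻¹ = x ^ 3 ^ m := by
    intro m
    induction m with
    | zero => rw [pow_zero, pow_zero, one_mul, inv_one, mul_one, pow_one]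
    | succ m ih =>
      have h2 : e ^ (m + 1) * x * (e ^ (m + 1))⁻¹ = e * (e ^ m * x * (e ^ m)⁻¹) * e⁻¹ := by rw [pow_succ']; group
      rw [h2, ih, ← conj_pow, he, ← pow_mul, pow_succ']
  have h5 : ((e ^ 5 : Subgroup.centralizer ({z} : Set G)) : G) ∈ Q := (h.pi_eq_one _).1 (by rw [map_pow, hef, f_pow1])
  have hf16 : pi (e ^ 16) = f := by rw [map_pow, hef, show 16 = 5 * 3 + 1 from rfl, pow_succ, pow_mul, f_pow1, one_pow, one_mul]
  refine ⟨e ^ 16, ?_, hf16, ?_⟩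
  · rw [hpow, ← pow_mod_orderOf, hx]
    norm_num
  · have : Fact (Nat.Prime 5) := ⟨by norm_num⟩
    refine orderOf_eq_prime ?_ ?_
    · have h6 := MFive.pow_four h h5
      have h7 : (e ^ 5) ^ 4 = 1 := Subtype.ext h6
      rw [← pow_mul, show 16 * 5 = (5 * 4) * 4 from rfl, pow_mul, pow_mul, h7, one_pow]
    · intro h6
      rw [h6, map_one] at hf16
      exact f_ne hf16.symm

/-- **The element of order 5 acts trivially on `C(x) / ⟨x⟩`.** -/
theorem aut_one [Finite G] [IsSimpleGroup G] (h : Chart Q z eta pi) {x : Subgroup.centralizer ({z} : Set G)}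
    (hx : orderOf x = 11) (hpx : pi x = s) (hd : 11 ∣ Nat.card (XX (x : G))) {φ : MulAut (XX (x : G))}
    (hφ : φ ^ 5 = 1) (hφt : φ (tt x) = tt x) : φ = 1 := by
  obtain ⟨c₀, H⟩ := Twelve.hyp h hx hpx
  obtain ⟨e⟩ := Twelve.iso h hx hpx hd
  obtain ⟨c, hc⟩ := CoThreeStd.M12.Out.inner_of_odd_of_equiv (e.trans CoThreeStd.M12.equiv) (k := 5) (by decide) hφ
  have hconj : ∀ u : XX (x : G), φ u = c * u * c⁻¹ := by
    intro u
    rw [← hc]
    rfl
  have hct : c * tt x = tt x * c := by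
    have h1 := hconj (tt x)
    rw [hφt] at h1
    exact (eq_mul_inv_iff_mul_eq.1 h1).symm
  have hc5 : ∀ u : XX (x : G), c ^ 5 * u = u * c ^ 5 := by
    intro u
    have h1 : (MulAut.conj (c ^ 5) : MulAut (XX (x : G))) = 1 := by rw [map_pow, hc, hφ]
    have h2 := DFunLike.congr_fun h1 u
    rw [MulAut.conj_apply, MulAut.one_apply] at h2
    exact mul_inv_eq_iff_eq_mul.1 h2
  have h5 : c ^ 5 = 1 ∨ c ^ 5 = tt x := by
    have h1 := H.large.self (c ^ 5) (hc5 _) (fun v _ => hc5 v)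
    exact H.large.cent _ h1 (fun v _ => hc5 v)
  have h10 : c ^ 10 = 1 := by
    rw [show 10 = 5 + 5 from rfl, pow_add]
    rcases h5 with h5 | h5
    · rw [h5, one_mul]
    · rw [h5, H.large.z_sq]
  have h192 : c ^ 192 = 1 := by
    have h1 : (⟨c, mem_centralizer_singleton_iff.2 hct⟩ : ↥(centralizer ({tt x} : Set (XX (x : G))))) ^ 192 = 1 := by
      rw [← H.cc]
      exact pow_card_eq_one'
    exact congrArg Subtype.val h1
  have h2 : c ^ 2 = 1 := by
    have h3 := Nat.dvd_gcd (orderOf_dvd_of_pow_eq_one h10) (orderOf_dvd_of_pow_eq_one h192)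
    exact orderOf_dvd_iff_pow_eq_one.1 (h3.trans (by norm_num))
  have h4 : φ ^ 2 = 1 := by rw [← hc, ← map_pow, h2, map_one]
  calc φ = φ ^ 5 * (φ ^ 2 * φ ^ 2)⁻¹ := by group
    _ = 1 := by rw [hφ, h4]; group

/-- the elements `y ∈ C(x) \ ⟨x⟩` of order 11 commuting with `c` -/
theorem exists_y [Finite G] [IsSimpleGroup G] (h : Chart Q z eta pi) {x : Subgroup.centralizer ({z} : Set G)}
    (hx : orderOf x = 11) (hpx : pi x = s) (hd : 11 ∣ Nat.card (XX (x : G)))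
    {c : Subgroup.centralizer ({z} : Set G)} (hc : c * x * c⁻¹ = x ^ 3) (hc5 : orderOf c = 5) :
    ∃ y : G, orderOf y = 11 ∧ (x : G) * y = y * x ∧ y ∉ zpowers (x : G) ∧ (c : G) * y = y * c := by
  have : Fact (Nat.Prime 11) := ⟨prime11⟩
  have hx11 : (x : G) ^ 11 = 1 := MFive.coe_pow (pow_eq_one hx)
  have hcG : (c : G) * (x : G) * (c : G)⁻¹ = (x : G) ^ 3 := congrArg Subtype.val hc
  have hcG5 : (c : G) ^ 5 = 1 := MFive.coe_pow (pow_eq_one hc5)
  have hxo : orderOf (x : G) = 11 := by rw [Subgroup.orderOf_coe, hx]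
  obtain ⟨φ, hφ, hφg⟩ := exists_aut hx11 hcG hcG5
  have hcz : (c : G) * z = z * c := mem_centralizer_singleton_iff.1 c.2
  have hczc : (c : G) * z * (c : G)⁻¹ = z := by rw [hcz, mul_inv_cancel_right]
  have hzx : z * (x : G) = x * z := (mem_centralizer_singleton_iff.1 x.2).symm
  have h1 : φ = 1 := by
    refine aut_one h hx hpx hd hφ ?_
    have h2 := hφg z hzx (by rw [hczc]; exact hzx)
    rw [tt, h2]
    exact mk_congr _ _ hczc
  -- an element of order 11 of the quotient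
  obtain ⟨u, hu⟩ := exists_prime_orderOf_dvd_card' 11 hd
  obtain ⟨g, hg, rfl⟩ := exists_mk u
  have hg' : ((c : G) * g * (c : G)⁻¹) * (x : G) = x * ((c : G) * g * (c : G)⁻¹) := by
    have e12 : (x : G) = ((x : G) ^ 3) ^ 4 := by
      rw [← pow_mul, show 3 * 4 = 11 + 1 from rfl, pow_succ, hx11, one_mul]
    have h2 : Commute ((c : G) * g * (c : G)⁻¹) ((x : G) ^ 3) := by
      rw [← hcG]
      show (c : G) * g * (c : G)⁻¹ * (c * x * (c : G)⁻¹) = c * x * (c : G)⁻¹ * (c * g * (c : G)⁻¹)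
      calc (c : G) * g * (c : G)⁻¹ * (c * x * (c : G)⁻¹) = c * (g * x) * (c : G)⁻¹ := by group
        _ = c * (x * g) * (c : G)⁻¹ := by rw [hg]
        _ = _ := by group
    have h3 := h2.pow_right 4
    rw [← e12] at h3
    exact h3
  have h2 := hφg g hg hg'
  rw [h1, MulAut.one_apply] at h2
  obtain ⟨j, hj⟩ := (mk_eq_mk hg hg').1 h2
  have hgx : Commute g (x : G) := hg
  -- `g ^ 11 = 1`
  have hg11 : g ^ 11 = 1 := by
    have h3 : mk (x : G) hg ^ 11 = 1 := by rw [← hu, pow_orderOf_eq_one]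
    have h4 : g ^ 11 * (x : G) = x * g ^ 11 := hgx.pow_left 11
    have h5 : mk (x : G) h4 = 1 := h3
    obtain ⟨i, hi⟩ := (mk_eq_one h4).1 h5
    have h6 : (c : G) * g ^ 11 * (c : G)⁻¹ = g ^ 11 := by
      rw [← conj_pow, ← hj, (hgx.zpow_right j).mul_pow, ← zpow_natCast ((x : G) ^ j), ← zpow_mul, mul_comm j, zpow_mul,
        zpow_natCast, hx11, one_zpow, mul_one]
    have h7 : ((x : G) ^ i) ^ 3 = (x : G) ^ i := by
      rw [← hi, ← conj_zpow, hcG] at h6
      calc ((x : G) ^ i) ^ 3 = ((x : G) ^ 3) ^ i := by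
            rw [← zpow_natCast, ← zpow_mul, mul_comm, zpow_mul, zpow_natCast]
        _ = (x : G) ^ i := h6
    have h8 : ((x : G) ^ i) ^ 2 = 1 := by
      have h9 : ((x : G) ^ i) ^ 2 * (x : G) ^ i = 1 * (x : G) ^ i := by rw [← pow_succ, one_mul]; exact h7
      exact mul_right_cancel h9
    have h9 : ((x : G) ^ i) ^ 11 = 1 := by
      rw [← zpow_natCast, ← zpow_mul, mul_comm, zpow_mul, zpow_natCast, hx11, one_zpow]
    rw [← hi]
    have h10 := Nat.dvd_gcd (orderOf_dvd_of_pow_eq_one h8) (orderOf_dvd_of_pow_eq_one h9)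
    exact orderOf_eq_one_iff.1 (Nat.dvd_one.1 (h10.trans (by norm_num)))
  have hgn : g ∉ zpowers (x : G) := by
    intro hm
    obtain ⟨i, hi⟩ := mem_zpowers_iff.1 hm
    have h3 : mk (x : G) hg = 1 := (mk_eq_one hg).2 ⟨i, hi⟩
    rw [h3, orderOf_one] at hu
    norm_num at hu
  refine ⟨g * (x : G) ^ (5 * j), ?_, ?_, ?_, ?_⟩
  · refine orderOf_eq_prime ?_ ?_
    · rw [(hgx.zpow_right (5 * j)).mul_pow, hg11, one_mul, ← zpow_natCast, ← zpow_mul, mul_comm, zpow_mul,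
        zpow_natCast, hx11, one_zpow]
    · intro h3
      apply hgn
      rw [eq_inv_of_mul_eq_one_left h3]
      exact Subgroup.inv_mem _ (Subgroup.zpow_mem_zpowers _ _)
  · exact (hgx.symm.mul_right ((Commute.refl (x : G)).zpow_right (5 * j))).eq
  · intro h3
    apply hgn
    have h4 := Subgroup.mul_mem _ h3 (Subgroup.inv_mem _ (Subgroup.zpow_mem_zpowers (x : G) (5 * j)))
    rwa [mul_inv_cancel_right] at h4
  · have h3 : (c : G) * (g * (x : G) ^ (5 * j)) * (c : G)⁻¹ = g * (x : G) ^ (5 * j) := by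
      have h4 : (c : G) * (g * (x : G) ^ (5 * j)) * (c : G)⁻¹ =
          ((c : G) * g * (c : G)⁻¹) * ((c : G) * x ^ (5 * j) * (c : G)⁻¹) := by group
      rw [h4, ← conj_zpow, hcG, ← hj, mul_assoc, ← zpow_natCast, ← zpow_mul, ← zpow_add]
      have h5 : j + ((3 : ℕ) : ℤ) * (5 * j) = 5 * j + 11 * j := by push_cast; ring
      rw [h5, zpow_add, zpow_mul (x : G) 11 j]
      have h6 : (x : G) ^ (11 : ℤ) = 1 := by
        rw [show (11 : ℤ) = ((11 : ℕ) : ℤ) from rfl, zpow_natCast, hx11]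
      rw [h6, one_zpow, mul_one]
    exact mul_inv_eq_iff_eq_mul.1 h3

/-- `y` commutes with an involution -/
theorem exists_inv {c y : G} (hc : orderOf c = 5) (hy : orderOf y = 11) (hcy : c * y = y * c)
    (hN : Spor.IsoHN (XX c)) : ∃ v : G, orderOf v = 2 ∧ y * v = v * y := by
  have hc5 : c ^ 5 = 1 := by rw [← hc, pow_orderOf_eq_one]
  have hy11 : y ^ 11 = 1 := by rw [← hy, pow_orderOf_eq_one]
  have : Fact (Nat.Prime 11) := ⟨prime11⟩
  have : Fact (Nat.Prime 2) := ⟨Nat.prime_two⟩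
  have hyc : y * c = c * y := hcy.symm
  have h11 : orderOf (mk c hyc) = 11 := by
    refine orderOf_eq_prime ?_ ?_
    · have h0 : y ^ 11 * c = c * y ^ 11 := (show Commute y c from hyc).pow_left 11
      show mk c h0 = 1
      rw [mk_eq_one]
      exact ⟨0, by rw [zpow_zero, hy11]⟩
    · intro h
      obtain ⟨i, hi⟩ := (mk_eq_one hyc).1 h
      have h5 : y ^ 5 = 1 := by rw [← hi, ← zpow_natCast, ← zpow_mul, mul_comm, zpow_mul, zpow_natCast, hc5, one_zpow]
      have h6 := orderOf_dvd_of_pow_eq_one h5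
      rw [hy] at h6
      norm_num at h6
  obtain ⟨u, hu, huy⟩ := HN.hn hN h11
  obtain ⟨v, hv, rfl⟩ := exists_mk u
  have hvc : Commute v c := hv
  have h1 : (v * y) * c = c * (v * y) := (hvc.mul_left hyc)
  have h2 : (y * v) * c = c * (y * v) := ((show Commute y c from hyc).mul_left hvc)
  have h3 : mk c h1 = mk c h2 := huy
  obtain ⟨i, hi⟩ := (mk_eq_mk h1 h2).1 h3
  -- `v y = y v`
  have hvy : v * y = y * v := by
    have h4 : v⁻¹ * y * v = y * c ^ i := by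
      have hci : Commute (c ^ i) v := hvc.symm.zpow_left i
      have hcy' : Commute (c ^ i) y := (show Commute c y from hcy).zpow_left i
      calc v⁻¹ * y * v = v⁻¹ * (y * v) := by group
        _ = v⁻¹ * (v * y * c ^ i) := by rw [hi]
        _ = y * c ^ i := by group
    have h5 : (y * c ^ i) ^ 11 = 1 := by
      rw [← h4]
      have e : v⁻¹ * y * v = v⁻¹ * y * v⁻¹⁻¹ := by rw [inv_inv]
      rw [e, conj_pow, hy11, mul_one, mul_inv_cancel]
    have hyci : Commute y (c ^ i) := (show Commute y c from hyc).zpow_right i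
    rw [hyci.mul_pow, hy11, one_mul] at h5
    have h6 : (c ^ i) ^ 5 = 1 := by rw [← zpow_natCast, ← zpow_mul, mul_comm, zpow_mul, zpow_natCast, hc5, one_zpow]
    have h7 := Nat.dvd_gcd (orderOf_dvd_of_pow_eq_one h5) (orderOf_dvd_of_pow_eq_one h6)
    have h8 : c ^ i = 1 := orderOf_eq_one_iff.1 (Nat.dvd_one.1 (h7.trans (by norm_num)))
    rw [h8, mul_one] at hi
    exact hi
  refine ⟨v ^ 5, orderOf_eq_prime ?_ ?_, ((show Commute v y from hvy).pow_left 5).symm⟩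
  · have h4 : v ^ 2 * c = c * v ^ 2 := hvc.pow_left 2
    have h5 : mk c h4 = 1 := by
      have h6 : mk c hv ^ 2 = 1 := by rw [← hu, pow_orderOf_eq_one]
      exact h6
    obtain ⟨k, hk⟩ := (mk_eq_one h4).1 h5
    rw [← pow_mul, mul_comm, pow_mul, ← hk, ← zpow_natCast, ← zpow_mul, mul_comm, zpow_mul, zpow_natCast, hc5, one_zpow]
  · intro h4
    have h5 : mk c hv ^ 5 = 1 := by
      have h6 : v ^ 5 * c = c * v ^ 5 := hvc.pow_left 5
      show mk c h6 = 1
      rw [mk_eq_one]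
      exact ⟨0, by rw [zpow_zero, h4]⟩
    have h6 := orderOf_dvd_of_pow_eq_one h5
    rw [hu] at h6
    norm_num at h6

/-! ### The model -/

open Cfsg.Agent.BpSpor.MBigModel

instance finMG : Finite MG := BpSpor.MBigModel.finite

instance simMG : IsSimpleGroup MG := BpSpor.MBigModel.simple

theorem exists_x : ∃ x : Subgroup.centralizer ({zz} : Set MG), orderOf x = 11 ∧ BpSpor.MBigModel.pi x = s :=
  MFive.KPair.exists_order chart prime11 (by decide) orderOf_s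

theorem not_cube : ¬ 11 ^ 3 ∣ Nat.card MG := by rw [card_M]; norm_num

/-- `11 ∣ |C(x) / ⟨x⟩|` -/
theorem dvd_XX {x : MG} (hx : orderOf x = 11) : 11 ∣ Nat.card (XX x) := by
  have : Fact (Nat.Prime 11) := ⟨prime11⟩
  have hp : IsPGroup 11 (zpowers x) := IsPGroup.of_card (n := 1) (by rw [Nat.card_zpowers, hx, pow_one])
  obtain ⟨P, hP⟩ := hp.exists_le_sylow
  have hc : Nat.card (P : Subgroup MG) = 11 ^ 2 := by
    obtain ⟨k, hk⟩ := IsPGroup.iff_card.1 P.isPGroup'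
    have h1 : ¬ 3 ≤ k := fun h3 => not_cube ((pow_dvd_pow 11 h3).trans (hk ▸ Subgroup.card_subgroup_dvd_card _))
    have h2 : 2 ≤ k := by
      have h3 : 11 ^ 2 ∣ Nat.card (P : Subgroup MG) := by
        rw [P.card_eq_multiplicity]
        refine pow_dvd_pow 11 ((prime11.pow_dvd_iff_le_factorization Nat.card_pos.ne').1 ?_)
        rw [card_M]
        norm_num
      rw [hk] at h3
      exact (Nat.pow_dvd_pow_iff_le_right (by norm_num)).1 h3
    have h3 : k = 2 := by omega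
    rw [hk, h3]
  have hcomm := IsPGroup.isMulCommutative_of_card_eq_prime_sq hc
  have hle : (P : Subgroup MG) ≤ centralizer ({x} : Set MG) := by
    intro y hy
    rw [mem_centralizer_singleton_iff]
    exact congrArg Subtype.val (hcomm.is_comm.comm (⟨y, hy⟩ : (P : Subgroup MG)) ⟨x, hP (Subgroup.mem_zpowers x)⟩)
  have h1 := Subgroup.card_dvd_of_le hle
  rw [hc] at h1
  have h2 := Subgroup.card_eq_card_quotient_mul_card_subgroup (Zx x)
  have h3 : Nat.card ↥(Zx x) = 11 := by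
    rw [Zx, Nat.card_zpowers, ← hx]
    exact Subgroup.orderOf_mk x _
  rw [h2, h3, pow_two] at h1
  exact Nat.dvd_of_mul_dvd_mul_right (by norm_num) h1

theorem abIrr_model : Cfsg.Agent.H795.AbIrr 11 MG := by
  have : Fact (Nat.Prime 11) := ⟨prime11⟩
  obtain ⟨x, hx, hpx⟩ := exists_x
  have hxo : orderOf (x : MG) = 11 := by rw [Subgroup.orderOf_coe, hx]
  have hd := dvd_XX hxo
  obtain ⟨c, hc, hcf, hc5⟩ := exists_f chart hx hpx
  obtain ⟨y, hy, hxy, hyx, hcy⟩ := exists_y chart hx hpx hd hc hc5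
  have hN : Spor.IsoHN (XX (c : MG)) := MFiveHN.Closed.hnEight chart c hc5 (by rw [hcf]; exact fr_f1)
  obtain ⟨v, hv, hyv⟩ := exists_inv (by rw [Subgroup.orderOf_coe, hc5]) hy hcy hN
  obtain ⟨g, hg⟩ := BpSpor.MBigEleven.comm_z hy hv hyv
  -- `⟨y⟩` is conjugate to `⟨x⟩`
  have h1 : (g⁻¹ * y * g) * zz = zz * (g⁻¹ * y * g) := by
    calc (g⁻¹ * y * g) * zz = g⁻¹ * (y * (g * zz * g⁻¹)) * g := by group
      _ = g⁻¹ * ((g * zz * g⁻¹) * y) * g := by rw [hg]
      _ = zz * (g⁻¹ * y * g) := by group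
  let y' : centralizer ({zz} : Set MG) := ⟨g⁻¹ * y * g, mem_centralizer_singleton_iff.2 h1⟩
  have hy' : orderOf y' = 11 := by
    rw [← Subgroup.orderOf_coe, ← hy]
    show orderOf (g⁻¹ * y * g) = orderOf y
    have e : g⁻¹ * y * g = MulAut.conj g⁻¹ y := by rw [MulAut.conj_apply, inv_inv]
    rw [e, MulEquiv.orderOf_eq]
  obtain ⟨k, hk⟩ := CpAutON.Gen.conj_into (p := 11) (BpSpor.MBigModel.not_sq (Or.inl rfl) orderOf_zz) hy' hx
  obtain ⟨i, hi⟩ := mem_zpowers_iff.1 hk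
  have hcG : (c : MG) * (x : MG) * (c : MG)⁻¹ = (x : MG) ^ 3 := congrArg Subtype.val hc
  refine Cfsg.Agent.H800.Sp.abIrr_of_pair (x := (x : MG)) (y := y) (f := (c : MG)) (g := (k : MG) * g⁻¹) not_cube hxo hy hxy
    hyx ?_ hcy ?_ ?_
  · refine mem_zpowers_iff.2 ⟨i, ?_⟩
    have h2 := congrArg Subtype.val hi
    have h3 : (k : MG) * g⁻¹ * y * ((k : MG) * g⁻¹)⁻¹ = (k : MG) * (g⁻¹ * y * g) * (k : MG)⁻¹ := by group
    rw [h3]
    exact h2
  · rw [hcG]
    exact Subgroup.npow_mem_zpowers _ 3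
  · intro h2
    rw [h2, mul_inv_cancel_right] at hcG
    have h3 : (x : MG) ^ 2 = 1 := by
      have h4 : (x : MG) ^ 2 * (x : MG) = 1 * (x : MG) := by rw [← pow_succ, one_mul]; exact hcG.symm
      exact mul_right_cancel h4
    have h4 := orderOf_dvd_of_pow_eq_one h3
    rw [hxo] at h4
    norm_num at h4

theorem hasReal_model : Cfsg.Agent.H800.Sp.HasReal 11 MG := by
  obtain ⟨x, hx, hpx⟩ := exists_x
  have hx11 := pow_eq_one hx
  obtain ⟨c, hc⟩ := MFive.exists_conj_of_conj chart prime11 (by decide) (x := x) (y := x⁻¹) hx11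
    (by rw [inv_pow, hx11, inv_one]) (s := t) (by rw [hpx, map_inv, hpx]; exact ts)
  exact ⟨x, c, by rw [Subgroup.orderOf_coe, hx], congrArg Subtype.val hc⟩

end Cfsg.Agent.H800.ME.Final
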